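import Groth.Agent.Node12.Loc.Locus
import Groth.Agent.Node12.Loc.BaseChange
import Groth.Agent.Smooth28.SynEtale
import Groth.Agent.S1593
import Groth.Agent.S1595
import Groth.Prelude.Def_StrictSS
import Mathlib.Algebra.MvPolynomial.Equiv

/-!
Strictly semistable curves are semistable.
-/

set_option autoImplicit false
set_option backward.isDefEq.respectTransparency.types false
universe u

open CategoryTheory CategoryTheory.Limits AlgebraicGeometry
open Groth.Agent.Node12 Groth.Agent.Node12.Loc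

namespace Groth.Agent.StrictSS20

/-- The affine line is smooth of relative dimension one. -/
theorem relDim_lineToBase (A : Type u) [CommRing A] : SmoothOfRelativeDimension 1 (StrictSS.lineToBase A) := by
  have h1 : Algebra.IsStandardSmoothOfRelativeDimension 1 A (MvPolynomial (Fin 1) A) :=
    Smooth28.isStandardSmooth_mvPolynomial A 1
  have h2 : Algebra.IsStandardSmoothOfRelativeDimension 1 A (Polynomial A) :=
    Algebra.IsStandardSmoothOfRelativeDimension.of_algEquiv 1
      ((MvPolynomial.renameEquiv A finOneEquiv).trans (MvPolynomial.pUnitAlgEquiv A))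
  rw [HasRingHomProperty.Spec_iff (P := @SmoothOfRelativeDimension 1)]
  exact RingHom.locally_of RingHom.isStandardSmoothOfRelativeDimension_respectsIso _
    ((RingHom.isStandardSmoothOfRelativeDimension_algebraMap (R := A) (S := Polynomial A) 1).2 h2)

theorem lineZero_lineToBase (A : Type u) [CommRing A] :
    StrictSS.lineZero A ≫ StrictSS.lineToBase A = 𝟙 _ := by
  rw [← Spec.map_comp, ← Spec.map_id]
  congr 1
  refine CommRingCat.hom_ext (RingHom.ext fun a => ?_)
  simp

variable {C D S : Scheme.{u}} {φ : C ⟶ S} {i : D ⟶ C} {x : C}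

/-- A line chart gives a smooth neighbourhood of relative dimension one. -/
theorem relDim_of_lineChart (h : StrictSS.HasLineChartAt φ i x) :
    ∃ U : C.Opens, x ∈ U ∧ SmoothOfRelativeDimension 1 (U.ι ≫ φ) ∧ Etale ((i ⁻¹ᵁ U).ι ≫ i ≫ φ) := by
  obtain ⟨A, j, hj, U, hxU, q, hq, f, fD, hf, hfq, hfD, hfD'⟩ := h
  refine ⟨U, hxU, ?_, ?_⟩
  · have := relDim_lineToBase A
    have h1 : SmoothOfRelativeDimension (0 + 1) (f ≫ StrictSS.lineToBase A) := inferInstance
    have h2 : SmoothOfRelativeDimension (0 + 1 + 0) ((f ≫ StrictSS.lineToBase A) ≫ j) := inferInstance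
    rw [hq, ← hfq]
    exact h2
  · have e : (i ⁻¹ᵁ U).ι ≫ i ≫ φ = fD ≫ j := by
      rw [← Category.assoc, ← morphismRestrict_ι i U, Category.assoc, hq, ← hfq, ← Category.assoc,
        ← Category.assoc, ← hfD', Category.assoc fD, lineZero_lineToBase]
      exact congrArg (· ≫ j) (Category.comp_id fD)
    rw [e]
    infer_instance

/-- A node chart gives a nodal neighbourhood without marked points. -/
theorem nodal_of_nodeChart [Flat φ] (h : StrictSS.HasNodeChartAt φ i x) :
    ∃ U : C.Opens, x ∈ U ∧ Curv2.IsNodalFamily (U.ι ≫ φ) ∧ Disjoint (Set.range i) (U : Set C) := by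
  obtain ⟨A, j, hj, U, hxU, q, hq, a, f, hf, hfq, hdis⟩ := h
  refine ⟨U, hxU, ?_, hdis⟩
  have hflat : Flat (q ≫ j) := hq ▸ inferInstance
  have hpb : IsPullback (𝟙 (U : Scheme.{u})) q (q ≫ j) j :=
    IsPullback.of_horiz_isIso_mono ⟨by simp⟩
  have hq' : Flat q := MorphismProperty.of_isPullback hpb hflat
  let h := f ≫ nodeStruct a
  have hh : h = q := hfq
  have : LocallyOfFinitePresentation (nodeStruct a) :=
    (HasRingHomProperty.Spec_iff (P := @LocallyOfFinitePresentation)).2
      (RingHom.finitePresentation_algebraMap.2 (finitePresentation_nodeRing a))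
  have hnod : Curv2.IsNodalFamily h :=
    ⟨hh ▸ hq', inferInstance, fun v => fibres_of_etale (nodeStruct a) f (nodeStruct_fibre_nodal a) v⟩
  rw [hq, ← hh]
  exact S1595.result j h hnod

/-- A strictly semistable multipointed curve is semistable. -/
theorem isSemistable (h : StrictSS.IsStrictlySemistable φ i) : SSMod.IsSemistable φ i := by
  obtain ⟨hMP, hch⟩ := h
  have : Flat φ := hMP.1
  have : LocallyOfFinitePresentation φ := hMP.2.1
  have key : ∀ x : C, ∃ U : C.Opens, x ∈ U ∧ Curv2.IsNodalFamily (U.ι ≫ φ) ∧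
      Etale ((i ⁻¹ᵁ U).ι ≫ i ≫ φ) ∧ (x ∈ Set.range i → Smooth (U.ι ≫ φ)) := by
    intro x
    rcases hch x with hl | hn
    · obtain ⟨U, hxU, hU, hD⟩ := relDim_of_lineChart hl
      exact ⟨U, hxU, isNodalFamily_of_smooth_one _, hD, fun _ => SmoothOfRelativeDimension.smooth 1 _⟩
    · obtain ⟨U, hxU, hU, hdis⟩ := nodal_of_nodeChart hn
      have : IsEmpty (i ⁻¹ᵁ U).toScheme := ⟨fun d => Set.disjoint_left.1 hdis ⟨d.1, rfl⟩ d.2⟩
      exact ⟨U, hxU, hU, inferInstance, fun hx => absurd hxU (Set.disjoint_left.1 hdis hx)⟩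
  choose U hxU hU hD hsm using key
  refine ⟨hMP, ?_, ?_, ?_⟩
  · exact S1593.result φ C (fun x => (U x : Scheme.{u})) (fun x => (U x).ι)
      (fun x => ⟨x, ⟨x, hxU x⟩, rfl⟩) hU
  · exact (IsZariskiLocalAtSource.iff_of_iSup_eq_top (P := @Etale) (fun x => i ⁻¹ᵁ U x)
      (top_le_iff.1 fun d _ => TopologicalSpace.Opens.mem_iSup.2 ⟨i d, hxU (i d)⟩)).2 hD
  · rw [Set.disjoint_left]
    intro x hx hns
    refine hns ?_
    have := hsm x hx
    exact (Scheme.Hom.mem_smoothLocus).1 (((Unr55.exists_smooth_iff φ x).1 ⟨U x, hxU x, this⟩))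

end Groth.Agent.StrictSS20
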