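import Groth.Agent.StrictSS20.Charts
import Groth.Agent.SchBasics.Reduced
import Groth.Agent.Props58.Comp
import Groth.Agent.VarGal.SmoothReg
import Groth.Agent.CAlg1.Regular

/-!
Irreducible components of strictly semistable curves over a field are smooth.
-/

set_option autoImplicit false
set_option backward.isDefEq.respectTransparency.types false
universe u

open CategoryTheory CategoryTheory.Limits AlgebraicGeometry TopologicalSpace
open Groth.Agent.Node12 Groth.Agent.Node12.Loc

namespace Groth.Agent.StrictSS20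

variable {k : Type u} [Field k]

/-- Components of a smooth scheme over a field are open. -/
theorem isOpen_component {W : Scheme.{u}} (p : W ⟶ Spec (CommRingCat.of k)) [Smooth p] {Z : Set W}
    (hZ : Z ∈ irreducibleComponents W) : IsOpen Z := by
  have : IsLocallyNoetherian W := LocallyOfFiniteType.isLocallyNoetherian p
  refine Props58.isOpen_irreducibleComponent (fun x Z hZ Z' hZ' h h' => ?_) (fun x => ?_) hZ
  · have := VarGal.isRegularLocalRing_stalk_of_smooth p x
    exact Props58.eq_of_isDomain_stalk x (CAlg1.isDomain_regular _) Z hZ Z' hZ' h h'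
  · obtain ⟨U, hU, hxU, -⟩ := exists_isAffineOpen_mem_and_subset (X := W) (x := x) (U := ⊤) trivial
    have : IsAffine U.toScheme := hU
    have : IsNoetherian U.toScheme := { }
    exact ⟨U, hxU, NoetherianSpace.finite_irreducibleComponents (α := U.toScheme)⟩

/-- A reduced component is smooth near a point where the scheme is a union of two smooth closed pieces. -/
theorem smooth_component_near {C W : Scheme.{u}} (φ : C ⟶ Spec (CommRingCat.of k)) (e : W ⟶ C)
    [IsClosedImmersion e] [IsReduced W] (hZ : Set.range e ∈ irreducibleComponents C) (U : C.Opens)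
    {V₁ V₂ : Scheme.{u}} (e₁ : V₁ ⟶ U.toScheme) (e₂ : V₂ ⟶ U.toScheme) [IsClosedImmersion e₁]
    [IsClosedImmersion e₂] (h₁ : Smooth (e₁ ≫ U.ι ≫ φ)) (h₂ : Smooth (e₂ ≫ U.ι ≫ φ))
    (hcov : Set.range e₁ ∪ Set.range e₂ = Set.univ) (hne : ∃ x ∈ Set.range e, x ∈ U) :
    Smooth ((e ⁻¹ᵁ U).ι ≫ e ≫ φ) := by
  let ZU : Set U.toScheme := U.ι ⁻¹' Set.range e
  have hZU : ZU ∈ irreducibleComponents U.toScheme :=
    preimage_mem_irreducibleComponents hZ U.ι.isOpenEmbedding (by
      obtain ⟨x, hx, hxU⟩ := hne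
      exact ⟨x, hx, by rw [Scheme.Opens.range_ι]; exact hxU⟩)
  suffices key : ∀ {V : Scheme.{u}} (a : V ⟶ U.toScheme) [IsClosedImmersion a], Smooth (a ≫ U.ι ≫ φ) →
      ZU ⊆ Set.range a → Smooth ((e ⁻¹ᵁ U).ι ≫ e ≫ φ) by
    rcases isPreirreducible_iff_isClosed_union_isClosed.1 hZU.1.2 _ _ e₁.isClosedEmbedding.isClosed_range
      e₂.isClosedEmbedding.isClosed_range (hcov ▸ Set.subset_univ _) with h | h
    · exact key e₁ h₁ h
    · exact key e₂ h₂ h
  intro V a _ hs hsub
  let Z' : Set V := a ⁻¹' ZU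
  have himg : a '' Z' = ZU := Set.image_preimage_eq_of_subset hsub
  have hZ' : Z' ∈ irreducibleComponents V := by
    refine ⟨⟨?_, fun u v hu hv huz hvz => ?_⟩, fun T hT hle => ?_⟩
    · obtain ⟨z, hz⟩ := hZU.1.1
      obtain ⟨t, rfl⟩ := hsub hz
      exact ⟨t, hz⟩
    · obtain ⟨u', hu', rfl⟩ := a.isEmbedding.isInducing.isOpen_iff.1 hu
      obtain ⟨v', hv', rfl⟩ := a.isEmbedding.isInducing.isOpen_iff.1 hv
      obtain ⟨t₁, h11, h12⟩ := huz
      obtain ⟨t₂, h21, h22⟩ := hvz
      obtain ⟨z, hz, hz'⟩ := hZU.1.2 u' v' hu' hv' ⟨a t₁, h11, h12⟩ ⟨a t₂, h21, h22⟩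
      obtain ⟨t, rfl⟩ := hsub hz
      exact ⟨t, hz, hz'⟩
    have h1 : a '' T ⊆ ZU := hZU.2 (hT.image a a.continuous.continuousOn) (himg ▸ Set.image_mono hle)
    exact fun t ht => h1 ⟨t, ht, rfl⟩
  let O : V.Opens := ⟨Z', isOpen_component (a ≫ U.ι ≫ φ) hZ'⟩
  have : IsClosedImmersion O.ι := IsClosedImmersion.of_isPreimmersion _ (by
    rw [Scheme.Opens.range_ι]; exact isClosed_of_mem_irreducibleComponents _ hZ')
  have : ∀ y : V, _root_.IsReduced (V.presheaf.stalk y) := fun y => by
    have := VarGal.isRegularLocalRing_stalk_of_smooth (a ≫ U.ι ≫ φ) y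
    have := CAlg1.isDomain_regular (V.presheaf.stalk y)
    infer_instance
  have : IsReduced V := isReduced_of_isReduced_stalk V
  let m : O.toScheme ⟶ U.toScheme := O.ι ≫ a
  let eU : (e ⁻¹ᵁ U).toScheme ⟶ U.toScheme := e ∣_ U
  have : IsClosedImmersion eU := IsZariskiLocalAtTarget.restrict ‹IsClosedImmersion e› U
  have hrm : Set.range m = ZU := by
    rw [Scheme.Hom.comp_base, TopCat.coe_comp, Set.range_comp, Scheme.Opens.range_ι]; exact himg
  have hre : Set.range eU = ZU := by
    ext u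
    constructor
    · rintro ⟨w, rfl⟩
      refine ⟨(e ⁻¹ᵁ U).ι w, ?_⟩
      rw [← Scheme.Hom.comp_apply, ← morphismRestrict_ι, Scheme.Hom.comp_apply]
    · rintro ⟨w, hw⟩
      have hwU : w ∈ e ⁻¹ᵁ U := show e w ∈ U from hw ▸ u.2
      refine ⟨⟨w, hwU⟩, U.ι.isEmbedding.injective ?_⟩
      rw [← Scheme.Hom.comp_apply, morphismRestrict_ι, Scheme.Hom.comp_apply]
      exact hw
  have hker : eU.ker = m.ker := by
    rw [SchBasics.ker_of_isReduced_of_isClosedImmersion, SchBasics.ker_of_isReduced_of_isClosedImmersion]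
    congr 1
    ext1
    exact hre.trans hrm.symm
  let l := IsClosedImmersion.lift eU m hker.le
  have : IsIso l := IsClosedImmersion.isIso_lift eU m hker
  have hl : l ≫ eU = m := IsClosedImmersion.lift_fac _ _ _
  have heq : (e ⁻¹ᵁ U).ι ≫ e ≫ φ = inv l ≫ m ≫ U.ι ≫ φ := by
    rw [← hl, Category.assoc, IsIso.inv_hom_id_assoc, ← Category.assoc eU, morphismRestrict_ι, Category.assoc]
  rw [heq]
  have : Smooth (a ≫ U.ι ≫ φ) := hs
  show Smooth (inv l ≫ (O.ι ≫ a) ≫ U.ι ≫ φ)
  rw [Category.assoc]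
  infer_instance

/-- One axis of the node. -/
noncomputable def axisHom (A : Type u) [CommRing A] (i : Fin 2) : StrictSS.NodeAlg A 0 →ₐ[A] Polynomial A :=
  Ideal.Quotient.liftₐ _ (MvPolynomial.aeval fun l => if l = i then Polynomial.X else 0) fun x hx => by
    obtain ⟨x, rfl⟩ := Ideal.mem_span_singleton'.1 hx
    fin_cases i <;> simp

theorem axisHom_var (A : Type u) [CommRing A] (i l : Fin 2) :
    axisHom A i (nodeVar 0 l) = if l = i then Polynomial.X else 0 :=
  MvPolynomial.aeval_X _ l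

theorem axisHom_surjective (A : Type u) [CommRing A] (i : Fin 2) : Function.Surjective (axisHom A i) := fun p =>
  ⟨Polynomial.aeval (nodeVar 0 i) p, by
    rw [← Polynomial.aeval_algHom_apply, axisHom_var, if_pos rfl, Polynomial.aeval_X_left_apply]⟩

theorem ker_axisHom_le (A : Type u) [CommRing A] (i l : Fin 2) (hli : l ≠ i) :
    RingHom.ker (axisHom A i) ≤ Ideal.span {(nodeVar (0 : A) l)} := by
  intro x hx
  let ψ : Polynomial A →ₐ[A] StrictSS.NodeAlg A 0 ⧸ Ideal.span {(nodeVar (0 : A) l)} :=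
    Polynomial.aeval (Ideal.Quotient.mk _ (nodeVar (0 : A) i))
  have h : ψ.comp (axisHom A i) = Ideal.Quotient.mkₐ A _ := by
    refine Ideal.Quotient.algHom_ext A (MvPolynomial.algHom_ext fun m => ?_)
    show ψ (axisHom A i (nodeVar 0 m)) = Ideal.Quotient.mk _ (nodeVar 0 m)
    rw [axisHom_var]
    by_cases hm : m = i
    · subst hm; simp [ψ]
    · rw [if_neg hm, map_zero, show m = l by omega, eq_comm, Ideal.Quotient.eq_zero_iff_mem]
      exact Ideal.mem_span_singleton_self _
  have := congr($h x)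
  rw [AlgHom.comp_apply, show axisHom A i x = 0 from hx, map_zero] at this
  exact Ideal.Quotient.eq_zero_iff_mem.1 this.symm

theorem axes_cover (A : Type u) [CommRing A] (w : PrimeSpectrum (StrictSS.NodeAlg A 0)) :
    ∃ i, w ∈ Set.range (PrimeSpectrum.comap (axisHom A i).toRingHom) := by
  obtain ⟨l, hl⟩ : ∃ l : Fin 2, nodeVar (0 : A) l ∈ w.asIdeal := by
    have h : nodeVar (0 : A) 0 * nodeVar (0 : A) 1 ∈ w.asIdeal := by
      have e := nodeVar_mul (0 : A)
      rw [e]
      exact (congrArg (· ∈ w.asIdeal) (map_zero _)).mpr w.asIdeal.zero_mem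
    rcases w.isPrime.mem_or_mem h with h | h
    · exact ⟨0, h⟩
    · exact ⟨1, h⟩
  refine ⟨l + 1, ?_⟩
  rw [range_comap_of_surjective _ _ (axisHom_surjective A _), PrimeSpectrum.mem_zeroLocus]
  exact (ker_axisHom_le A (l + 1) l (by omega)).trans ((Ideal.span_singleton_le_iff_mem _).2 hl)

variable {C D : Scheme.{u}} {φ : C ⟶ Spec (CommRingCat.of k)} {i : D ⟶ C} {x : C}

/-- Near each point of a strictly semistable curve over a field there are two smooth closed pieces. -/
theorem exists_smooth_pieces (h : StrictSS.HasLineChartAt φ i x ∨ StrictSS.HasNodeChartAt φ i x) :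
    ∃ (U : C.Opens) (V₁ V₂ : Scheme.{u}) (e₁ : V₁ ⟶ U.toScheme) (e₂ : V₂ ⟶ U.toScheme),
      x ∈ U ∧ IsClosedImmersion e₁ ∧ IsClosedImmersion e₂ ∧ Smooth (e₁ ≫ U.ι ≫ φ) ∧
        Smooth (e₂ ≫ U.ι ≫ φ) ∧ Set.range e₁ ∪ Set.range e₂ = Set.univ := by
  have triv : ∀ U : C.Opens, x ∈ U → Smooth (U.ι ≫ φ) →
      ∃ (U : C.Opens) (V₁ V₂ : Scheme.{u}) (e₁ : V₁ ⟶ U.toScheme) (e₂ : V₂ ⟶ U.toScheme),
      x ∈ U ∧ IsClosedImmersion e₁ ∧ IsClosedImmersion e₂ ∧ Smooth (e₁ ≫ U.ι ≫ φ) ∧
        Smooth (e₂ ≫ U.ι ≫ φ) ∧ Set.range e₁ ∪ Set.range e₂ = Set.univ := fun U hx hs =>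
    ⟨U, U, U, 𝟙 _, 𝟙 _, hx, inferInstance, inferInstance, by rwa [Category.id_comp], by rwa [Category.id_comp],
      Set.eq_univ_of_forall fun u => Or.inl ⟨u, rfl⟩⟩
  rcases h with hl | hn
  · obtain ⟨U, hxU, hU, -⟩ := relDim_of_lineChart hl
    exact triv U hxU (SmoothOfRelativeDimension.smooth 1 _)
  obtain ⟨A, j, hj, U, hxU, q, hq, a, f, hf, hfq, -⟩ := hn
  have hsub : Subsingleton (Spec (CommRingCat.of k)) := inferInstanceAs (Subsingleton (PrimeSpectrum k))
  have : Surjective j := ⟨fun y => ⟨q ⟨x, hxU⟩, hsub.elim _ _⟩⟩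
  have : IsIso j := (isIso_iff_isOpenImmersion_and_surjective _).2 ⟨hj, this⟩
  have hA : IsField A := by
    have h1 : IsIso (Spec.map (Spec.preimage j)) := by rw [Spec.map_preimage]; infer_instance
    have : IsIso (Scheme.Spec.map (Spec.preimage j).op) := h1
    have : IsIso (Spec.preimage j).op := isIso_of_fully_faithful Scheme.Spec _
    have : IsIso (Spec.preimage j) := isIso_of_op _
    exact (asIso (Spec.preimage j)).commRingCatIsoToRingEquiv.symm.toMulEquiv.isField (Field.toIsField k)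
  have hsmq : ∀ {T : Scheme.{u}} (t : T ⟶ Spec A), Smooth t → Smooth (t ≫ j) := fun t ht => inferInstance
  by_cases ha : a = 0
  · subst ha
    let pi : Fin 2 → (Spec (CommRingCat.of (Polynomial A)) ⟶ Spec (CommRingCat.of (StrictSS.NodeAlg A 0))) :=
      fun l => Spec.map (CommRingCat.ofHom (axisHom A l).toRingHom)
    have hpi : ∀ l, IsClosedImmersion (pi l) := fun l => IsClosedImmersion.spec_of_surjective _ (axisHom_surjective A l)
    have hs : ∀ l, Smooth (pullback.fst f (pi l) ≫ U.ι ≫ φ) := fun l => by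
      have := relDim_lineToBase A
      have : Smooth (StrictSS.lineToBase A) := SmoothOfRelativeDimension.smooth 1 _
      have hpl : pi l ≫ StrictSS.nodeToBase A 0 = StrictSS.lineToBase A := by
        rw [← Spec.map_comp]
        congr 1
        exact CommRingCat.hom_ext (RingHom.ext fun a => (axisHom A l).commutes a)
      have e : pullback.fst f (pi l) ≫ U.ι ≫ φ = (pullback.snd f (pi l) ≫ StrictSS.lineToBase A) ≫ j := by
        rw [hq, ← hfq, ← hpl]
        simp only [← Category.assoc, pullback.condition]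
      rw [e]
      exact hsmq _ inferInstance
    refine ⟨U, _, _, pullback.fst f (pi 0), pullback.fst f (pi 1), hxU, inferInstance, inferInstance, hs 0, hs 1,
      Set.eq_univ_of_forall fun u => ?_⟩
    obtain ⟨l, hl⟩ := axes_cover A (f u)
    rw [Scheme.Pullback.range_fst, Scheme.Pullback.range_fst]
    fin_cases l
    · exact Or.inl hl
    · exact Or.inr hl
  · have hu : IsUnit a := by
      obtain ⟨b, hb⟩ := hA.mul_inv_cancel ha
      exact IsUnit.of_mul_eq_one b hb
    have := finitePresentation_nodeRing a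
    have : LocallyOfFinitePresentation (nodeStruct a) :=
      (HasRingHomProperty.Spec_iff (P := @LocallyOfFinitePresentation)).2
        (RingHom.finitePresentation_algebraMap.2 (finitePresentation_nodeRing a))
    have hsn : Smooth (nodeStruct a) := Scheme.Hom.smoothLocus_eq_top_iff.1 (top_le_iff.1 fun w _ => by
      refine (Open62.mem_smoothLocus_spec_iff w).2
        ((Algebra.basicOpen_subset_smoothLocus_iff (R := A) (f := nodeVar a 0)).2 (formallySmooth_away a 0) ?_)
      exact fun hw => w.isPrime.ne_top (Ideal.eq_top_of_isUnit_mem _ (w.asIdeal.mul_mem_right (nodeVar a 1) hw)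
        (by rw [nodeVar_mul]; exact hu.map _)))
    refine triv U hxU ?_
    rw [hq, ← hfq]
    exact hsmq _ (inferInstanceAs (Smooth (f ≫ nodeStruct a)))

/-- Components of strictly semistable curves over a field are smooth. -/
theorem exists_smooth_component (h : StrictSS.IsStrictlySemistable φ i) {Z : Set C}
    (hZ : Z ∈ irreducibleComponents C) :
    ∃ (W : Scheme.{u}) (e : W ⟶ C), IsClosedImmersion e ∧ IsReduced W ∧ Set.range e.base = Z ∧ Smooth (e ≫ φ) := by
  let Zc : Closeds C := ⟨Z, isClosed_of_mem_irreducibleComponents Z hZ⟩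
  let e := (Scheme.IdealSheafData.vanishingIdeal Zc).subschemeι
  have hr : Set.range e = Z := SchBasics.range_vanishingIdeal_subschemeι Zc
  have := SchBasics.isReduced_vanishingIdeal_subscheme Zc
  refine ⟨_, e, inferInstance, this, hr, ?_⟩
  choose U V₁ V₂ e₁ e₂ hx hc₁ hc₂ hs₁ hs₂ hcov using fun x => exists_smooth_pieces (h.2 x)
  refine (IsZariskiLocalAtSource.iff_of_iSup_eq_top (P := @Smooth)
    (fun x : ↥(Scheme.IdealSheafData.vanishingIdeal Zc).subscheme => e ⁻¹ᵁ U (e x))
    (top_le_iff.1 fun w _ => Opens.mem_iSup.2 ⟨w, hx (e w)⟩)).2 fun w => ?_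
  have := hc₁ (e w)
  have := hc₂ (e w)
  exact smooth_component_near φ e (hr.symm ▸ hZ) _ (e₁ (e w)) (e₂ (e w)) (hs₁ _) (hs₂ _) (hcov _)
    ⟨e w, ⟨w, rfl⟩, hx _⟩

end Groth.Agent.StrictSS20
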